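import Groth.Agent.DevLib.TFSub
import Groth.Agent.DevLib.Closed
import Groth.Agent.ShStabLib.Noeth

/-! Submodules isomorphic to pushed forward powers of ideals near a point. -/

set_option autoImplicit false
set_option backward.isDefEq.respectTransparency false
set_option linter.style.haveILetI false

universe u

open CategoryTheory CategoryTheory.Limits AlgebraicGeometry TopologicalSpace Opposite
open Groth.Agent.PullbackMod Groth.Agent.CohBase Groth.Agent.QCohLib

noncomputable section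

namespace Groth.Agent.PieceSub

open Groth.Agent.DevLib

variable {X : Scheme.{u}} {ξ : X}

/-- If the stalk at `ξ` is killed by the maximal ideal, no proper generalization is in the support. -/
theorem notMem_support_of_specializes {F : X.Modules} (hF : Coh.IsCoh F)
    (hann : ∀ a ∈ IsLocalRing.maximalIdeal (X.presheaf.stalk ξ), ∀ m : F.presheaf.stalk ξ, a • m = 0)
    {η : X} (h : η ⤳ ξ) (hne : ¬ ξ ⤳ η) : η ∉ CohB1.support F := by
  haveI := hF.1
  rw [mem_support_iff, not_not]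
  obtain ⟨W, hW, hξW, -⟩ := exists_isAffineOpen_mem_and_subset (x := ξ) (U := (⊤ : X.Opens)) trivial
  have hηW : η ∈ W := h.mem_open W.2 hξW
  obtain ⟨V, hηV, hξV⟩ := not_specializes_iff.1 hne
  obtain ⟨f, hfV, hηf⟩ := hW.exists_basicOpen_le (V := V) ⟨η, hηV⟩ hηW
  have hξf : ξ ∉ X.basicOpen f := fun h' => hξV (hfV h')
  have hfm : X.presheaf.germ W ξ hξW f ∈ IsLocalRing.maximalIdeal (X.presheaf.stalk ξ) := by
    rw [IsLocalRing.mem_maximalIdeal, mem_nonunits_iff]
    exact fun hu => hξf ((X.mem_basicOpen f ξ hξW).2 hu)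
  have hfu : IsUnit (X.presheaf.germ W η hηW f) := (X.mem_basicOpen f η hηW).1 hηf
  have hzero : ∀ m : Γ(F, W), F.presheaf.germ W η hηW m = 0 := fun m => by
    have h1 : F.presheaf.germ W ξ hξW (f • m) = 0 :=
      (PresheafOfModules.germ_smul (R := X.presheaf) F.val ξ W hξW f m).trans (hann _ hfm _)
    obtain ⟨W', hξW', i₁, i₂, e⟩ := TopCat.Presheaf.germ_eq F.presheaf ξ hξW hξW (f • m) 0
      (h1.trans (map_zero (F.presheaf.germ W ξ hξW).hom).symm)
    have h2 := congrArg (F.presheaf.germ W' η (h.mem_open W'.2 hξW')) e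
    rw [F.presheaf.germ_res_apply, F.presheaf.germ_res_apply, map_zero] at h2
    refine hfu.smul_eq_zero.1 ?_
    exact (PresheafOfModules.germ_smul (R := X.presheaf) F.val η W hηW f m).symm.trans h2
  refine subsingleton_of_forall_eq 0 fun z => ?_
  obtain ⟨U, hηU, s, rfl⟩ := TopCat.Presheaf.exists_germ_eq F.presheaf z
  obtain ⟨g, hgU, hηg⟩ := hW.exists_basicOpen_le (V := U) ⟨η, hηU⟩ hηW
  obtain ⟨n, s', hs'⟩ := (locAt F hW).extend g (F.presheaf.map (homOfLE hgU).op s)
  have h3 := congrArg (F.presheaf.germ (X.basicOpen g) η hηg) hs'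
  rw [sc_apply] at h3
  have h4 := (F.presheaf.germ_res_apply (homOfLE (X.basicOpen_le g)) η hηg s').symm.trans h3
  rw [hzero] at h4
  have h5 := h4.trans (PresheafOfModules.germ_smul (R := X.presheaf) F.val η (X.basicOpen g) hηg _ _)
  have hu : IsUnit (X.presheaf.germ (X.basicOpen g) η hηg (X.presheaf.map (homOfLE (X.basicOpen_le g)).op (g ^ n))) := by
    rw [X.presheaf.germ_res_apply, map_pow]
    exact ((X.mem_basicOpen g η hηW).1 hηg).pow n
  rw [← F.presheaf.germ_res_apply (homOfLE hgU) η hηg s]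
  exact hu.smul_eq_zero.1 h5.symm

/-- A coherent submodule supported in `closure {ξ}` with the same stalk at `ξ`. -/
theorem exists_supp_sub [IsNoetherian X] (C : Closeds X) : ∀ {F : X.Modules}, Coh.IsCoh F →
    (∀ a ∈ IsLocalRing.maximalIdeal (X.presheaf.stalk ξ), ∀ m : F.presheaf.stalk ξ, a • m = 0) →
    CohB1.support F ⊆ (C : Set X) →
    ∃ (G : X.Modules) (i : G ⟶ F), Coh.IsCoh G ∧ Mono i ∧ (∀ y ∈ CohB1.support G, ξ ⤳ y) ∧
      Function.Surjective (stalkLin i ξ) := by
  induction C using WellFoundedLT.induction with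
  | _ C IH =>
    intro F hF hann hC
    haveI := hF.1
    by_cases hall : ∀ y ∈ CohB1.support F, ξ ⤳ y
    · exact ⟨F, 𝟙 F, hF, inferInstance, hall, fun z => ⟨z, by rw [stalkLin_id]; rfl⟩⟩
    push Not at hall
    let A : Set X := {y | y ∈ CohB1.support F ∧ ¬ ξ ⤳ y}
    obtain ⟨η, hη, W₀, hηW, hW₀⟩ := exists_top_point (isClosed_closure (s := A))
      (Set.Nonempty.closure hall)
    have hηF : η ∈ CohB1.support F := closure_minimal (fun y hy => hy.1) (isClosed_support hF) hη
    have hηξ : ¬ ξ ⤳ η := fun h => by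
      obtain ⟨y, hyW, hyA⟩ := mem_closure_iff.1 hη W₀ W₀.2 hηW
      exact hyA.2 (h.trans (hW₀ y hyW (subset_closure hyA)))
    have hnot : ¬ η ⤳ ξ := fun h => notMem_support_of_specializes hF hann h hηξ hηF
    let B : Submodule (X.presheaf.stalk η) (F.presheaf.stalk η) := ⊥
    have hB : Absorbs B := absorbs_bot
      (W₀ := W₀ ⊓ (⟨closure {ξ}, isClosed_closure⟩ : Closeds X).compl)
      ⟨hηW, fun h => hηξ (specializes_iff_mem_closure.2 h)⟩
      fun y hy hys => hW₀ y hy.1 (subset_closure ⟨hys, fun h => hy.2 (specializes_iff_mem_closure.1 h)⟩)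
    have hsub : CohB1.support (subAt B) ⊆ CohB1.support F := support_subset_of_mono (subAtι B)
    have hsurj : Function.Surjective (stalkLin (subAtι B) ξ) := surjective_stalk_subAtι B hnot
    have hlt : (⟨_, isClosed_support (isCoh_subAt hF hB)⟩ : Closeds X) < C :=
      lt_of_le_of_ne (show CohB1.support (subAt B) ⊆ (C : Set X) from hsub.trans hC) fun he =>
        (subsingleton_subAt_bot : η ∉ CohB1.support (subAt B)) (SetLike.ext_iff.1 he η |>.2 (hC hηF))
    obtain ⟨G, i, hG, hi, hs, his⟩ := IH _ hlt (isCoh_subAt hF hB) (fun a ha m =>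
      injective_stalk_subAtι B ξ (by rw [map_smul, map_zero]; exact hann a ha _)) subset_rfl
    refine ⟨G, i ≫ subAtι B, hG, inferInstance, hs, ?_⟩
    rw [stalkLin_comp, LinearMap.coe_comp]
    exact hsurj.comp his

/-- Kernels of maps with vanishing stalk keep the stalk. -/
theorem surjective_kernel_ι {M N : X.Modules} (f : M ⟶ N) (h : Subsingleton (N.presheaf.stalk ξ)) :
    Function.Surjective (stalkLin (kernel.ι f) ξ) := by
  intro z
  let g : cokernel (kernel.ι f) ⟶ N := cokernel.desc (kernel.ι f) f (kernel.condition f)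
  haveI : Mono g := by
    rw [show g = Abelian.coimageImageComparison f ≫ Abelian.image.ι f from
      (cancel_epi (cokernel.π (kernel.ι f))).1 (by simp [g, Abelian.coimage_image_factorisation])]
    infer_instance
  haveI : Subsingleton ((cokernel (kernel.ι f)).presheaf.stalk ξ) :=
    ((mono_iff_stalk g).1 inferInstance ξ).subsingleton
  exact (coker_exact (kernel.ι f) ξ z).1 (Subsingleton.elim _ _)

theorem stalkLin_sum {M N : X.Modules} {ι : Type*} (s : Finset ι) (φ : ι → (M ⟶ N)) (x : X) (z : M.presheaf.stalk x) :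
    stalkLin (∑ i ∈ s, φ i) x z = ∑ i ∈ s, stalkLin (φ i) x z := by
  classical
  induction s using Finset.induction_on with
  | empty => rw [Finset.sum_empty, Finset.sum_empty, stalkLin_zero]; rfl
  | insert a s ha ih => rw [Finset.sum_insert ha, Finset.sum_insert ha, stalkLin_add, LinearMap.add_apply, ih]

section Fin

variable {C : Type*} [Category C] [Preadditive C] [HasFiniteCoproducts C] {n : ℕ}

/-- Projection of a finite power. -/
def proj (Q : C) (j : Fin n) : (∐ fun _ : Fin n => Q) ⟶ Q :=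
  Sigma.desc fun i => if i = j then 𝟙 Q else 0

theorem sum_proj (Q : C) : ∑ j, proj Q j ≫ Sigma.ι (fun _ : Fin n => Q) j = 𝟙 _ := by
  refine Sigma.hom_ext _ _ fun i => ?_
  rw [Preadditive.comp_sum, Category.comp_id, Finset.sum_eq_single i]
  · rw [proj, Sigma.ι_desc_assoc, if_pos rfl, Category.id_comp]
  · intro j _ hj
    rw [proj, Sigma.ι_desc_assoc, if_neg (Ne.symm hj), zero_comp]
  · simp

theorem map_proj {P Q : C} (m : P ⟶ Q) (j : Fin n) :
    Limits.Sigma.map (fun _ : Fin n => m) ≫ proj Q j = proj P j ≫ m := by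
  refine Sigma.hom_ext _ _ fun i => ?_
  rw [Limits.Sigma.ι_map_assoc, proj, proj, Sigma.ι_desc, Sigma.ι_desc_assoc]
  split <;> simp

theorem mono_map {P Q : C} (m : P ⟶ Q) [Mono m] : Mono (Limits.Sigma.map (fun _ : Fin n => m)) := by
  refine ⟨fun a b h => ?_⟩
  have e : ∀ j, a ≫ proj P j = b ≫ proj P j := fun j => (cancel_mono m).1 (by
    rw [Category.assoc, Category.assoc, ← map_proj, reassoc_of% h])
  rw [← Category.comp_id a, ← Category.comp_id b, ← sum_proj, Preadditive.comp_sum, Preadditive.comp_sum]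
  exact Finset.sum_congr rfl fun j _ => by rw [← Category.assoc, e, Category.assoc]

end Fin

theorem isCoh_powMod {Q : X.Modules} (hQ : Coh.IsCoh Q) : ∀ k, Coh.IsCoh (powMod Q k)
  | 0 => hQ
  | k + 1 => isCoh_biprod hQ (isCoh_powMod hQ k)

/-- A module supported on an integral closed subscheme contains a pushed forward power of an ideal,
with the same stalk at the generic point. -/
theorem exists_ideal_pow {Z : Scheme.{u}} (i : Z ⟶ X) [IsClosedImmersion i] [IsIntegral Z] [IsNoetherian X]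
    {F : X.Modules} (hF : Coh.IsCoh F)
    (hann : ∀ a ∈ IsLocalRing.maximalIdeal (X.presheaf.stalk (i (genericPoint Z))),
      ∀ m : ↑(F.presheaf.stalk (i (genericPoint Z))), a • m = 0) :
    ∃ (r : ℕ) (I : Z.Modules) (ι : I ⟶ Coh.structureModule Z) (φ : (Coh.push i).obj (∐ fun _ : Fin r => I) ⟶ F),
      Mono ι ∧ Coh.IsCoh I ∧ Mono φ ∧ Function.Surjective (stalkLin φ (i (genericPoint Z))) ∧
      Coh.IsCoh ((Coh.push i).obj (∐ fun _ : Fin r => I)) := by
  let ξ := i (genericPoint Z)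
  haveI : IsLocallyNoetherian Z := LocallyOfFiniteType.isLocallyNoetherian i
  haveI : (Coh.push i).Additive := inferInstance
  rcases subsingleton_or_nontrivial (F.presheaf.stalk ξ) with hsub | hnt
  · have hz : IsZero ((Coh.push i).obj (∐ fun _ : Fin 0 => Coh.structureModule Z)) := by
      refine Functor.map_isZero _ ((IsZero.iff_id_eq_zero _).2 (Sigma.hom_ext _ _ fun b => b.elim0))
    exact ⟨0, _, 𝟙 _, 0, inferInstance, isCoh_structureModule Z, ⟨fun _ _ _ => hz.eq_of_tgt _ _⟩,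
      fun z => ⟨0, Subsingleton.elim _ _⟩, isCoh_of_isZero hz⟩
  obtain ⟨G, iG, hG, hiG, hGs, hiGs⟩ := exists_supp_sub ⟨_, isClosed_support hF⟩ hF hann subset_rfl
  obtain ⟨L, iL, hL, hiL, htf, hiLs⟩ := exists_tfSub hG hGs
  haveI := hiG
  haveI := hiL
  haveI : Mono (iL ≫ iG) := mono_comp _ _
  let θ : L.presheaf.stalk ξ ≃ₗ[X.presheaf.stalk ξ] F.presheaf.stalk ξ :=
    LinearEquiv.ofBijective (stalkLin (iL ≫ iG) ξ) ⟨(mono_iff_stalk _).1 inferInstance ξ, by
      rw [stalkLin_comp, LinearMap.coe_comp]; exact hiGs.comp hiLs⟩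
  let Q := (Scheme.Modules.pushforward i).obj (Coh.structureModule Z)
  have hQ : IsPiece ξ Q := isPiece_pushUnit i
  haveI := hQ.simple
  haveI := hF.1
  haveI := finite_stalk_of_isFT hF.2 ξ
  obtain ⟨k, ⟨e'⟩⟩ := exists_equiv_pi_simple (S := Q.presheaf.stalk ξ) hann
  obtain ⟨hc, htp, -, ⟨ep⟩, -⟩ := powMod_spec hQ k
  obtain ⟨H, p, q₀, hH, hp, hq₀, hps, hq₀s⟩ := exists_common' hL hc htf htp
    (fun a ha z => θ.injective (by rw [map_smul, map_zero]; exact hann a ha _)) (θ.trans (e'.trans ep.symm))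
  haveI := hp
  haveI := hq₀
  let q : H ⟶ ∐ fun _ : Fin (k + 1) => Q := q₀ ≫ (powSigmaIso Q k).hom
  haveI : Mono q := mono_comp _ _
  have hqs : Function.Surjective (stalkLin q ξ) := by
    rw [stalkLin_comp, LinearMap.coe_comp]
    exact ((isIso_iff_stalk _).1 inferInstance ξ).2.comp hq₀s
  have hpow : Coh.IsCoh (∐ fun _ : Fin (k + 1) => Q) := ShStabLib.isCoh_of_iso (powSigmaIso Q k) hc
  let N := cokernel q
  have hN : Coh.IsCoh N := (isCoh_kernel_cokernel q hH hpow).2
  have hNs : Subsingleton (N.presheaf.stalk ξ) := DevLib.subsingleton_coker q hqs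
  let δ : Fin (k + 1) → (Q ⟶ N) := fun j => Sigma.ι (fun _ : Fin (k + 1) => Q) j ≫ cokernel.π q
  obtain ⟨H₀, m, hH₀, hm, hms, hmδ⟩ : ∃ (H₀ : X.Modules) (m : H₀ ⟶ Q), Coh.IsCoh H₀ ∧ Mono m ∧
      Function.Surjective (stalkLin m ξ) ∧ ∀ j, m ≫ δ j = 0 := by
    suffices h : ∀ s : Finset (Fin (k + 1)), ∃ (H₀ : X.Modules) (m : H₀ ⟶ Q), Coh.IsCoh H₀ ∧ Mono m ∧
        Function.Surjective (stalkLin m ξ) ∧ ∀ j ∈ s, m ≫ δ j = 0 by
      obtain ⟨H₀, m, a, b, c, d⟩ := h Finset.univ
      exact ⟨H₀, m, a, b, c, fun j => d j (Finset.mem_univ j)⟩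
    intro s
    induction s using Finset.induction_on with
    | empty => exact ⟨Q, 𝟙 Q, hQ.coh, inferInstance, fun z => ⟨z, by rw [stalkLin_id]; rfl⟩, by simp⟩
    | insert a s _ ih =>
      obtain ⟨H₁, m₁, hH₁, hm₁, hs₁, hd₁⟩ := ih
      haveI := hm₁
      refine ⟨kernel (m₁ ≫ δ a), kernel.ι _ ≫ m₁, (isCoh_kernel_cokernel _ hH₁ hN).1, inferInstance, ?_, ?_⟩
      · rw [stalkLin_comp, LinearMap.coe_comp]
        exact hs₁.comp (surjective_kernel_ι _ hNs)
      · intro j hj
        rcases Finset.mem_insert.1 hj with rfl | hj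
        · rw [Category.assoc]; exact kernel.condition _
        · rw [Category.assoc, hd₁ j hj, Limits.comp_zero]
  haveI := hm
  obtain ⟨I, ι, hι, hI, ⟨eI⟩⟩ := exists_ideal_of_mono i m hH₀.1
  haveI := hι
  haveI := mono_map (n := k + 1) m
  have hlift : Limits.Sigma.map (fun _ : Fin (k + 1) => m) ≫ cokernel.π q = 0 :=
    Sigma.hom_ext _ _ fun j => by rw [Limits.Sigma.ι_map_assoc, Limits.comp_zero]; exact hmδ j
  let g : (∐ fun _ : Fin (k + 1) => H₀) ⟶ H := Abelian.monoLift q _ hlift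
  have hg : g ≫ q = Limits.Sigma.map (fun _ : Fin (k + 1) => m) := Abelian.monoLift_comp _ _ _
  haveI : Mono g := mono_of_mono_fac hg
  have hmap : Function.Surjective (stalkLin (Limits.Sigma.map (fun _ : Fin (k + 1) => m)) ξ) := fun z => by
    choose w hw using fun j => hms (stalkLin (proj Q j) ξ z)
    refine ⟨∑ j, stalkLin (Sigma.ι (fun _ : Fin (k + 1) => H₀) j) ξ (w j), ?_⟩
    conv_rhs => rw [← LinearMap.id_apply (R := X.presheaf.stalk ξ) z, ← stalkLin_id, ← sum_proj Q, stalkLin_sum]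
    rw [map_sum]
    refine Finset.sum_congr rfl fun j _ => ?_
    rw [stalkLin_comp, LinearMap.comp_apply, ← hw j, ← LinearMap.comp_apply, ← LinearMap.comp_apply,
      ← stalkLin_comp, ← stalkLin_comp, Limits.Sigma.ι_map]
  have hgs : Function.Surjective (stalkLin g ξ) := fun z => by
    obtain ⟨w, hw⟩ := hmap (stalkLin q ξ z)
    refine ⟨w, (mono_iff_stalk q).1 inferInstance ξ ?_⟩
    rw [← LinearMap.comp_apply, ← stalkLin_comp, hg, hw]
  let e : (Coh.push i).obj (∐ fun _ : Fin (k + 1) => I) ≅ ∐ fun _ : Fin (k + 1) => H₀ :=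
    PreservesCoproduct.iso (Coh.push i) _ ≪≫ Limits.Sigma.mapIso fun _ => eI
  refine ⟨k + 1, I, ι, e.hom ≫ g ≫ p ≫ iL ≫ iG, hι, isCoh_of_mono ι (isCoh_structureModule Z) hI, inferInstance, ?_, ?_⟩
  · rw [stalkLin_comp, stalkLin_comp, stalkLin_comp, LinearMap.coe_comp, LinearMap.coe_comp, LinearMap.coe_comp]
    exact (((hiGs.comp hiLs |> fun h => (show Function.Surjective (stalkLin (iL ≫ iG) ξ) by
      rw [stalkLin_comp, LinearMap.coe_comp]; exact h)).comp hps).comp hgs).comp ((isIso_iff_stalk _).1 inferInstance ξ).2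
  · haveI : Coh.IsQCoh I := hI
    exact ShStabLib.isCoh_of_iso e.symm (ShStabLib.isCoh_of_iso (powSigmaIso H₀ k) (isCoh_powMod hH₀ k))

end Groth.Agent.PieceSub
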